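import Mathlib
import Cfsg.Agent.S5960

/-!
# Project SPD (S5961, 3u): elements of odd prime order `r ≠ p` of `Sp_{2d}(q)` and orthogonal decompositions
into nondegenerate `a`-spaces.  Leader: helper19.  Definitions shared by all rows.
-/

set_option autoImplicit false

namespace Cfsg.Agent.Lib.Helper19.SPD

variable {F : Type*} [Field F] {d : ℕ}

/-- the block size: `c = i` for `i` even, `c = 2 i` for `i` odd -/
def cc (i : ℕ) : ℕ := if Even i then i else 2 * i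

/-- `W` is `y`-invariant -/
def Inv (y : (Fin d ⊕ Fin d → F) →ₗ[F] (Fin d ⊕ Fin d → F)) (W : Submodule F (Fin d ⊕ Fin d → F)) : Prop :=
  ∀ v ∈ W, y v ∈ W

/-- `y` preserves the standard alternating form -/
def Isom (y : (Fin d ⊕ Fin d → F) →ₗ[F] (Fin d ⊕ Fin d → F)) : Prop :=
  ∀ u v, Cfsg.sympForm d F (y u) (y v) = Cfsg.sympForm d F u v

/-- the fixed space of `y` -/
def Fx (y : (Fin d ⊕ Fin d → F) →ₗ[F] (Fin d ⊕ Fin d → F)) : Submodule F (Fin d ⊕ Fin d → F) :=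
  LinearMap.ker (y - 1)

/-- the moved space `(y - 1) V` of `y` -/
def Mv (y : (Fin d ⊕ Fin d → F) →ₗ[F] (Fin d ⊕ Fin d → F)) : Submodule F (Fin d ⊕ Fin d → F) :=
  LinearMap.range (y - 1)

/-- `y` has no nonzero fixed vector in `W` -/
def FF (y : (Fin d ⊕ Fin d → F) →ₗ[F] (Fin d ⊕ Fin d → F)) (W : Submodule F (Fin d ⊕ Fin d → F)) : Prop :=
  ∀ v ∈ W, y v = v → v = 0

/-- nondegenerate subspace (the predicate `ND` of `Cfsg/Agent/S5960.lean`: `∀ u ∈ W, (∀ v ∈ W, ω u v = 0) → u = 0`) -/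
abbrev ND (W : Submodule F (Fin d ⊕ Fin d → F)) : Prop := Cfsg.Agent.S5960.ND d W

/-- orthogonal subspaces -/
def Orth (A B : Submodule F (Fin d ⊕ Fin d → F)) : Prop :=
  ∀ u ∈ A, ∀ v ∈ B, Cfsg.sympForm d F u v = 0

/-- the predicate of S5961: an orthogonal decomposition into nondegenerate `a`-spaces -/
def IsOD (a : ℕ) {t : ℕ} (D : Fin t → Submodule F (Fin d ⊕ Fin d → F)) : Prop :=
  Cfsg.Geo.IsMDecomposition a D ∧
    (∀ j, ∀ u ∈ D j, u ≠ 0 → ∃ v ∈ D j, Cfsg.sympForm d F u v ≠ 0) ∧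
    (∀ j j', j ≠ j' → ∀ u ∈ D j, ∀ v ∈ D j', Cfsg.sympForm d F u v = 0)

end Cfsg.Agent.Lib.Helper19.SPD
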